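import Mathlib
import Cfsg.Prelude.Def_RootSubgroups

/-!
# Root involutions: elementary lemmas

A set of root involutions `D`: two members commute, have product of odd order, or product of order
four with square in `D`.
-/

set_option autoImplicit false
set_option linter.unusedSectionVars false
set_option linter.unusedVariables false

namespace Cfsg.Agent.RootInvolutions.Basic

variable {G : Type*} [Group G] {D : Set G}

theorem sq (hD : Cfsg.IsRootInvolutionSet D) {a : G} (ha : a ∈ D) : a * a = 1 := by
  have h := pow_orderOf_eq_one a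
  rwa [hD.orderOf_eq a ha, pow_two] at h

theorem inv (hD : Cfsg.IsRootInvolutionSet D) {a : G} (ha : a ∈ D) : a⁻¹ = a :=
  inv_eq_of_mul_eq_one_left (sq hD ha)

theorem ne_one (hD : Cfsg.IsRootInvolutionSet D) {a : G} (ha : a ∈ D) : a ≠ 1 := fun h => by
  have := hD.orderOf_eq a ha
  rw [h, orderOf_one] at this
  omega

theorem conj_mem' (hD : Cfsg.IsRootInvolutionSet D) {a t : G} (ha : a ∈ D) (ht : t ∈ D) :
    t * a * t ∈ D := by
  have h := hD.conj_mem a ha t
  rwa [inv hD ht] at h

theorem commute_of_sq_eq_one {a b : G} (ha : a * a = 1) (hb : b * b = 1) (h : (a * b) ^ 2 = 1) :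
    Commute a b := by
  rw [pow_two] at h
  have h2 : a * b = (a * b)⁻¹ := eq_inv_of_mul_eq_one_left h
  rwa [mul_inv_rev, inv_eq_of_mul_eq_one_left ha, inv_eq_of_mul_eq_one_left hb] at h2

theorem eq_one_of_odd {g : G} (hodd : Odd (orderOf g)) {n : ℕ} (h : g ^ 2 ^ n = 1) : g = 1 := by
  rw [← orderOf_eq_one_iff]
  exact Nat.eq_one_of_dvd_coprimes ((Nat.coprime_two_left.2 hodd).pow_left n).symm dvd_rfl
    (orderOf_dvd_of_pow_eq_one h)

theorem commute_of_sq {g t : G} (hodd : Odd (orderOf g)) (h : Commute t (g ^ 2)) : Commute t g := by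
  obtain ⟨k, hk⟩ := hodd
  have e : g = (g ^ 2) ^ (k + 1) := by
    conv_lhs => rw [← pow_one g, ← one_mul (g ^ 1), ← pow_orderOf_eq_one g, hk]
    rw [← pow_add, ← pow_mul]
    ring_nf
  rw [e]
  exact h.pow_right _

theorem commute_conj {t u v : G} (ht : t * t = 1) (h : Commute u v) :
    Commute (t * u * t) (t * v * t) := by
  have e : ∀ w, t * w * t = MulAut.conj t w := fun w => by
    rw [MulAut.conj_apply, inv_eq_of_mul_eq_one_left ht]
  rw [e, e]
  exact h.map (MulAut.conj t).toMonoidHom

theorem orderOf_swap (a b : G) : orderOf (a * b) = orderOf (b * a) := by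
  have : a * b = MulAut.conj a (b * a) := by simp [MulAut.conj_apply, mul_assoc]
  rw [this]
  exact orderOf_injective (MulAut.conj a).toMonoidHom (MulAut.conj a).injective _

theorem orderOf_conj (t a b : G) :
    orderOf (t * a * t⁻¹ * (t * b * t⁻¹)) = orderOf (a * b) := by
  have : t * a * t⁻¹ * (t * b * t⁻¹) = MulAut.conj t (a * b) := by simp [MulAut.conj_apply, mul_assoc]
  rw [this]
  exact orderOf_injective (MulAut.conj t).toMonoidHom (MulAut.conj t).injective _

section Pair

variable (hD : Cfsg.IsRootInvolutionSet D) {a b : G} (ha : a ∈ D) (hb : b ∈ D)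
include hD ha hb

theorem not_commute_of_odd (hodd : Odd (orderOf (a * b))) (hne : a ≠ b) : ¬ Commute a b := by
  intro h
  have h2 : (a * b) ^ 2 ^ 1 = 1 := by
    rw [pow_one, h.mul_pow, pow_two, pow_two, sq hD ha, sq hD hb, one_mul]
  exact hne (by rw [mul_eq_one_iff_eq_inv.1 (eq_one_of_odd hodd h2), inv hD hb])

theorem not_commute_of_four (h4 : orderOf (a * b) = 4) : ¬ Commute a b := by
  intro h
  have h2 : (a * b) ^ 2 = 1 := by
    rw [h.mul_pow, pow_two, pow_two, sq hD ha, sq hD hb, one_mul]
  have := Nat.le_of_dvd (by norm_num) (orderOf_dvd_of_pow_eq_one h2)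
  omega

theorem trichotomy : Commute a b ∨ (Odd (orderOf (a * b)) ∧ a ≠ b ∧ ¬ Commute a b) ∨
    orderOf (a * b) = 4 := by
  rcases hD.pair a ha b hb with h | h | h
  · exact Or.inl h
  · rcases eq_or_ne a b with rfl | hne
    · exact Or.inl (Commute.refl a)
    · exact Or.inr (Or.inl ⟨h, hne, not_commute_of_odd hD ha hb h hne⟩)
  · exact Or.inr (Or.inr h.1)

theorem sq_mem (h4 : orderOf (a * b) = 4) : (a * b) ^ 2 ∈ D := by
  rcases hD.pair a ha b hb with h | h | h
  · exact absurd h (not_commute_of_four hD ha hb h4)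
  · rw [h4] at h
    exact absurd h (by decide)
  · exact h.2

theorem sq_swap (h4 : orderOf (a * b) = 4) : (b * a) ^ 2 = (a * b) ^ 2 := by
  have e : b * a = (a * b)⁻¹ := by rw [mul_inv_rev, inv hD ha, inv hD hb]
  rw [e, inv_pow, inv_eq_of_mul_eq_one_left]
  rw [← pow_add]
  have h := pow_orderOf_eq_one (a * b)
  rwa [h4] at h

theorem sq_commute_left (h4 : orderOf (a * b) = 4) : Commute ((a * b) ^ 2) a := by
  rw [Commute, SemiconjBy]
  nth_rewrite 2 [← sq_swap hD ha hb h4]
  simp [pow_two, mul_assoc]

theorem sq_commute_right (h4 : orderOf (a * b) = 4) : Commute ((a * b) ^ 2) b := by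
  rw [Commute, SemiconjBy]
  nth_rewrite 1 [← sq_swap hD ha hb h4]
  simp [pow_two, mul_assoc]

theorem mul_sq_left (h4 : orderOf (a * b) = 4) : a * (a * b) ^ 2 = b * a * b := by
  rw [pow_two, ← mul_assoc, ← mul_assoc a a b, sq hD ha, one_mul, ← mul_assoc]

theorem mul_sq_right (h4 : orderOf (a * b) = 4) : b * (a * b) ^ 2 = a * b * a := by
  rw [← sq_swap hD ha hb h4, pow_two, ← mul_assoc, ← mul_assoc b b a, sq hD hb, one_mul,
    ← mul_assoc]

theorem conj_right (h4 : orderOf (a * b) = 4) : a * b * a = b * (a * b) ^ 2 :=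
  (mul_sq_right hD ha hb h4).symm

theorem mul_sq_left_mem (h4 : orderOf (a * b) = 4) : a * (a * b) ^ 2 ∈ D := by
  rw [mul_sq_left hD ha hb h4]
  exact conj_mem' hD ha hb

theorem mul_sq_right_mem (h4 : orderOf (a * b) = 4) : b * (a * b) ^ 2 ∈ D := by
  rw [mul_sq_right hD ha hb h4]
  exact conj_mem' hD hb ha

end Pair

variable (hD : Cfsg.IsRootInvolutionSet D)
include hD

/-- An odd pair `a, x` is not centralized by a member `f` with `af` a member. -/
theorem no_common {a x f : G} (ha : a ∈ D) (hx : x ∈ D) (hf : f ∈ D)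
    (hodd : Odd (orderOf (x * a))) (hne : x ≠ a) (hfa : Commute f a) (hfx : Commute f x)
    (haf : a * f ∈ D) : False := by
  set g := x * a with hg
  have hgf : Commute g f := (hfx.symm).mul_left hfa.symm
  have hg1 : g ≠ 1 := fun h => hne
    ((eq_inv_of_mul_eq_one_left (hg.symm.trans h)).trans (inv hD ha))
  have he : x * (a * f) = g * f := (mul_assoc _ _ _).symm
  have hf2 : f * f = 1 := sq hD hf
  rcases trichotomy hD hx haf with h | h | h
  · have h2 : Commute x a := by
      have h3 : x * a * f = a * x * f := by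
        calc x * a * f = x * (a * f) := mul_assoc _ _ _
          _ = a * f * x := h
          _ = a * x * f := by rw [mul_assoc, hfx.eq, ← mul_assoc]
      exact mul_right_cancel h3
    exact not_commute_of_odd hD hx ha hodd hne h2
  · obtain ⟨⟨k, hk⟩, -, -⟩ := h
    have h1 := pow_orderOf_eq_one (x * (a * f))
    rw [hk, he, hgf.mul_pow, pow_succ f, pow_mul f, pow_two, hf2, one_pow, one_mul] at h1
    have h2 : f = (g ^ (2 * k + 1))⁻¹ := eq_inv_of_mul_eq_one_right h1
    have h3 : f ^ orderOf g = 1 := by
      rw [h2, inv_pow, ← pow_mul, mul_comm, pow_mul, pow_orderOf_eq_one, one_pow, inv_one]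
    obtain ⟨l, hl⟩ := hodd
    rw [hl, pow_succ f, pow_mul f, pow_two, hf2, one_pow, one_mul] at h3
    exact ne_one hD hf h3
  · have h1 := pow_orderOf_eq_one (x * (a * f))
    rw [h, he, hgf.mul_pow, show f ^ 4 = (f * f) * (f * f) by simp [pow_succ, mul_assoc], hf2,
      one_mul, mul_one] at h1
    exact hg1 (eq_one_of_odd hodd (n := 2) h1)

/-- A member commuting with `a` has no odd product with a product partner of `a`. -/
theorem not_odd {a b x : G} (ha : a ∈ D) (hb : b ∈ D) (hx : x ∈ D) (hxa : Commute x a)
    (hab : Commute a b) (habD : a * b ∈ D) : Commute x b ∨ orderOf (x * b) = 4 := by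
  rcases trichotomy hD hx hb with h | ⟨h, hne, -⟩ | h
  · exact Or.inl h
  · exact (no_common hD hb hx ha h hne hab hxa.symm (hab.eq ▸ habD)).elim
  · exact Or.inr h

/-- An odd partner of `a` does not have order four with both other members of a triangle. -/
theorem no_four_four {a b x : G} (ha : a ∈ D) (hb : b ∈ D) (hx : x ∈ D) (hab : Commute a b)
    (habD : a * b ∈ D) (hodd : Odd (orderOf (x * a))) (hne : x ≠ a)
    (h4b : orderOf (x * b) = 4) (h4c : orderOf (x * (a * b)) = 4) : False := by
  set c := a * b with hc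
  set d := (x * b) ^ 2 with hd
  set e := (x * c) ^ 2 with he
  have ha2 := sq hD ha
  have hb2 := sq hD hb
  have hc2 := sq hD habD
  have hx2 := sq hD hx
  have heD : e ∈ D := sq_mem hD hx habD h4c
  have hcb : Commute c b := hab.mul_left (Commute.refl b)
  have hca : Commute c a := (Commute.refl a).mul_left hab.symm
  have habc : a = b * c := by rw [← hcb.eq, hc, mul_assoc, hb2, mul_one]
  have e1 : x * b * x = b * d := conj_right hD hx hb h4b
  have e2 : x * c * x = c * e := conj_right hD hx habD h4c
  set r := (x * a) ^ 2 with hr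
  have hr' : r = x * a * x * a := by rw [hr, pow_two, ← mul_assoc]
  have e3 : r = c * e * d * c := by
    have e4 : x * a * x = (c * e) * (b * d) := by
      rw [← e2, ← e1, (commute_conj hx2 hcb).eq, habc]
      calc x * (b * c) * x = x * b * (x * x) * c * x := by rw [hx2]; simp [mul_assoc]
        _ = x * b * x * (x * c * x) := by simp [mul_assoc]
    have e5 : d * b = b * d := (sq_commute_right hD hx hb h4b).eq
    rw [hr', e4]
    nth_rewrite 1 [habc]
    calc c * e * (b * d) * (b * c) = c * e * (b * (d * b)) * c := by simp [mul_assoc]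
      _ = c * e * (b * (b * d)) * c := by rw [e5]
      _ = c * e * d * c := by rw [← mul_assoc b b d, hb2, one_mul]
  have hxcrc : Commute x (c * r * c) := by
    have : c * r * c = e * d := by
      rw [e3]
      calc c * (c * e * d * c) * c = (c * c) * (e * d) * (c * c) := by simp [mul_assoc]
        _ = e * d := by rw [hc2, one_mul, mul_one]
    rw [this]
    exact (sq_commute_left hD hx habD h4c).symm.mul_right (sq_commute_left hD hx hb h4b).symm
  have hexr : Commute (e * x) r := by
    have h1 : Commute (c * x * c) (c * (c * r * c) * c) := commute_conj hc2 hxcrc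
    have h2 : c * (c * r * c) * c = r := by
      calc c * (c * r * c) * c = (c * c) * r * (c * c) := by simp [mul_assoc]
        _ = r := by rw [hc2, one_mul, mul_one]
    have h3 : c * x * c = e * x := by
      rw [he, ← sq_swap hD hx habD h4c, pow_two]
      calc c * x * c = c * x * c * (x * x) := by rw [hx2, mul_one]
        _ = c * x * (c * x) * x := by simp [mul_assoc]
    rwa [h2, h3] at h1
  have hxr : x * r * x = r⁻¹ := by
    rw [hr, ← inv_pow, mul_inv_rev, inv hD ha, inv hD hx, pow_two, pow_two]
    calc x * (x * a * (x * a)) * x = (x * x) * (a * x * (a * x)) := by simp [mul_assoc]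
      _ = a * x * (a * x) := by rw [hx2, one_mul]
  have har : a * r * a = r⁻¹ := by
    rw [hr, ← inv_pow, mul_inv_rev, inv hD ha, inv hD hx, pow_two, pow_two]
    calc a * (x * a * (x * a)) * a = a * x * (a * x) * (a * a) := by simp [mul_assoc]
      _ = a * x * (a * x) := by rw [ha2, mul_one]
  have her : e * r * e = r⁻¹ := by
    have h1 : e * r⁻¹ = r * e := by
      calc e * r⁻¹ = e * x * r * x := by rw [← hxr]; simp [mul_assoc]
        _ = r * (e * x) * x := by rw [hexr.eq]
        _ = r * e := by rw [mul_assoc r (e * x), mul_assoc e x x, hx2, mul_one]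
    calc e * r * e = e * (r * e) := mul_assoc _ _ _
      _ = e * (e * r⁻¹) := by rw [h1]
      _ = r⁻¹ := by rw [← mul_assoc, sq hD heD, one_mul]
  have hec : Commute e c := sq_commute_right hD hx habD h4c
  rcases trichotomy hD heD ha with h | ⟨h, hne', -⟩ | h
  · -- `c` would centralize `xa`
    have h1 : Commute (x * c * x) a := by rw [e2]; exact hca.mul_left h
    have h2 : Commute c (x * a * x) := by
      have := commute_conj hx2 h1
      rwa [show x * (x * c * x) * x = (x * x) * c * (x * x) by simp [mul_assoc], hx2, one_mul,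
        mul_one] at this
    have h3 : Commute c r := by rw [hr']; exact h2.mul_right hca
    have h4 : Commute c ((x * a) * a) := (commute_of_sq hodd h3).mul_right hca
    rw [mul_assoc, ha2, mul_one] at h4
    exact not_commute_of_four hD hx habD h4c h4.symm
  · refine no_common hD ha heD habD h hne' hca hec.symm ?_
    rw [hc, ← mul_assoc, ha2, one_mul]
    exact hb
  · set f := (e * a) ^ 2 with hf
    have h1 : Commute (e * a) r := by
      have : e * a * r * (a * e) = r := by
        calc e * a * r * (a * e) = e * (a * r * a) * e := by simp [mul_assoc]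
          _ = (e * r * e)⁻¹ := by rw [har, mul_inv_rev, mul_inv_rev, inv hD heD, mul_assoc]
          _ = r := by rw [her, inv_inv]
      rw [Commute, SemiconjBy]
      nth_rewrite 2 [← this]
      simp [mul_assoc, ← mul_assoc e e, sq hD heD, ha2]
    have h2 : Commute f (x * a) := commute_of_sq hodd (h1.pow_left 2)
    have hfa : Commute f a := sq_commute_right hD heD ha h
    have hfx : Commute f ((x * a) * a) := h2.mul_right hfa
    rw [mul_assoc, ha2, mul_one] at hfx
    exact no_common hD ha hx (sq_mem hD heD ha h) hodd hne hfa hfx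
      (mul_sq_right_mem hD heD ha h)

/-- If `[x, c] = e` and `[d, e] = c` with `d, c` commuting then `x, d` is an odd pair. -/
theorem exact_odd {c d e x : G} (hc : c ∈ D) (hd : d ∈ D) (he : e ∈ D) (hx : x ∈ D)
    (hdc : Commute d c) (h4xc : orderOf (x * c) = 4) (hxc : (x * c) ^ 2 = e)
    (h4de : orderOf (d * e) = 4) (hde : (d * e) ^ 2 = c) :
    Odd (orderOf (x * d)) ∧ x ≠ d := by
  rcases trichotomy hD hx hd with h | ⟨h, hne, -⟩ | h
  · refine absurd ?_ (not_commute_of_four hD hd he h4de)
    rw [← hxc]
    exact (h.symm.mul_right hdc).pow_right 2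
  · exact ⟨h, hne⟩
  · exfalso
    set k := (x * d) ^ 2 with hk
    have hd2 := sq hD hd
    have hk2 : k * k = 1 := sq hD (sq_mem hD hx hd h)
    have hkx : Commute k x := sq_commute_left hD hx hd h
    have e1 : x * d * x = d * k := conj_right hD hx hd h
    have e2 : x * c * x = c * e := by rw [conj_right hD hx hc h4xc, hxc]
    have e3 : d * e * d = e * c := by rw [conj_right hD hd he h4de, hde]
    have hec : Commute e c := hxc ▸ sq_commute_right hD hx hc h4xc
    have h1 : Commute (d * k) (c * e) := by
      rw [← e1, ← e2]; exact commute_conj (sq hD hx) hdc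
    have h2 : d * (c * e) * d = e := by
      calc d * (c * e) * d = c * (d * e * d) := by rw [← mul_assoc d c, hdc.eq]; simp [mul_assoc]
        _ = e := by rw [e3, ← mul_assoc, ← hec.eq, mul_assoc, sq hD hc, mul_one]
    have hkd : Commute k d := sq_commute_right hD hx hd h
    have h3 : k * (c * e) * k = e := by
      have h4 : d * k * (c * e) * (d * k) = c * e := by
        rw [h1.eq, mul_assoc, show d * k * (d * k) = (d * d) * (k * k) by
          rw [hkd.mul_mul_mul_comm], hd2, hk2, one_mul, mul_one]
      calc k * (c * e) * k = d * (d * k * (c * e) * (d * k)) * d := by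
            rw [← hkd.eq]
            simp [mul_assoc, ← mul_assoc d d, hd2, hkd.eq]
        _ = e := by rw [h4, h2]
    have h5 : k * e * k = c * e := by
      conv_lhs => rw [← h3]
      calc k * (k * (c * e) * k) * k = (k * k) * (c * e) * (k * k) := by simp [mul_assoc]
        _ = c * e := by rw [hk2, one_mul, mul_one]
    have h6 : k * c * k = c := by
      calc k * c * k = k * (c * e) * k * (k * e * k)⁻¹ := by
            simp [mul_assoc, inv_eq_of_mul_eq_one_left hk2, ← mul_assoc k k, hk2]
        _ = c := by rw [h3, h5, mul_inv_rev, ← mul_assoc, mul_inv_cancel, one_mul, inv hD hc]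
    have hkc : Commute k c := by
      rw [Commute, SemiconjBy]
      nth_rewrite 2 [← h6]
      rw [mul_assoc _ k k, hk2, mul_one]
    have hke : Commute k e := hxc ▸ (hkx.mul_right hkc).pow_right 2
    rw [hke.eq, mul_assoc, hk2, mul_one] at h5
    exact ne_one hD hc (mul_eq_right.1 h5.symm)

end Cfsg.Agent.RootInvolutions.Basic
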