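import Mathlib
import Cfsg.Agent.Lib.RootInvolutions.Basic

/-!
# Root involutions: every proper product partner is a commutator

Let `e` be a product partner of `c` and `s` an odd partner of `c` that is not one of `e`. The
`⟨c, s⟩`-orbit of `e` generates an elementary abelian group in which `u ↦ [c, s u s]` is injective,
so `e` is a commutator `[v, c]` with `v` a member commuting with `e`.
-/

set_option autoImplicit false
set_option linter.unusedSectionVars false

namespace Cfsg.Agent.RootInvolutions.Edge

open Cfsg.Agent.RootInvolutions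

variable {G : Type*} [Group G]

/-- The step `u ↦ [c, s u s]`. -/
def next (c s u : G) : G := (c * (s * u * s)) ^ 2

/-- The iterates of `next`. -/
def orbit (c s e : G) : ℕ → G
  | 0 => e
  | n + 1 => next c s (orbit c s e n)

variable {D : Set G} (hD : Cfsg.IsRootInvolutionSet D) {c s : G} (hc : c ∈ D) (hs : s ∈ D)
  (hodd : Odd (orderOf (s * c))) (hne : s ≠ c)
include hD hc hs hodd hne

/-- A product partner of `c` forming a product of order four with `s`. -/
def Good (D : Set G) (c s u : G) : Prop :=
  u ∈ D ∧ Commute c u ∧ c * u ∈ D ∧ orderOf (s * u) = 4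

theorem four_of_not_odd {e : G} (he : e ∈ D) (hce : Commute c e) (hceD : c * e ∈ D)
    (h : ¬ (Odd (orderOf (s * e)) ∧ s ≠ e)) : orderOf (s * e) = 4 := by
  rcases Basic.trichotomy hD hs he with h1 | ⟨h1, h2, -⟩ | h1
  · exact (Basic.no_common hD hc hs he hodd hne hce.symm h1.symm hceD).elim
  · exact absurd ⟨h1, h2⟩ h
  · exact h1

theorem commute_conj_self {u : G} (hu : Good D c s u) : Commute u (s * u * s) := by
  rw [Basic.conj_right hD hs hu.1 hu.2.2.2]
  exact (Commute.refl u).mul_right (Basic.sq_commute_right hD hs hu.1 hu.2.2.2).symm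

theorem four_conj {u : G} (hu : Good D c s u) : orderOf (c * (s * u * s)) = 4 := by
  obtain ⟨huD, hcu, hcuD, h4⟩ := hu
  have hs2 := Basic.sq hD hs
  have hv : s * u * s ∈ D := Basic.conj_mem' hD huD hs
  rcases Basic.trichotomy hD hc hv with h | ⟨h, h', -⟩ | h
  · exfalso
    have h1 := Basic.commute_conj hs2 h
    rw [show s * (s * u * s) * s = (s * s) * u * (s * s) by simp [mul_assoc], hs2, one_mul,
      mul_one] at h1
    have hz : s * c * s ∈ D := Basic.conj_mem' hD hc hs
    refine Basic.no_common hD hc hz huD ?_ ?_ hcu.symm h1.symm hcuD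
    · rw [show s * c * s * c = (s * c) ^ 2 by rw [pow_two, ← mul_assoc]]
      exact Odd.of_dvd_nat hodd (orderOf_pow_dvd 2)
    · intro e
      refine Basic.not_commute_of_odd hD hs hc hodd hne ?_
      show s * c = c * s
      calc s * c = s * c * (s * s) := by rw [hs2, mul_one]
        _ = c * s := by rw [← mul_assoc, e]
  · exfalso
    have huv : u * (s * u * s) ∈ D := by
      rw [Basic.conj_right hD hs huD h4, ← mul_assoc, Basic.sq hD huD, one_mul]
      exact Basic.sq_mem hD hs huD h4
    rcases Basic.not_odd hD huD hv hc hcu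
      (commute_conj_self hD hc hs hodd hne ⟨huD, hcu, hcuD, h4⟩) huv with h1 | h1
    · exact Basic.not_commute_of_odd hD hc hv h h' h1
    · rw [h1] at h
      exact absurd h (by decide)
  · exact h

theorem next_good {u : G} (hu : Good D c s u) : Good D c s (next c s u) := by
  obtain ⟨huD, hcu, hcuD, h4⟩ := id hu
  have hv : s * u * s ∈ D := Basic.conj_mem' hD huD hs
  have h4' := four_conj hD hc hs hodd hne hu
  have hnD : next c s u ∈ D := Basic.sq_mem hD hc hv h4'
  have hnc : Commute (next c s u) c := Basic.sq_commute_left hD hc hv h4'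
  have hcnD : c * next c s u ∈ D := Basic.mul_sq_left_mem hD hc hv h4'
  refine ⟨hnD, hnc.symm, hcnD, ?_⟩
  rcases Basic.trichotomy hD hs hnD with h | ⟨h, h', -⟩ | h
  · exact (Basic.no_common hD hc hs hnD hodd hne hnc h.symm hcnD).elim
  · exfalso
    have hqn : Commute ((s * u) ^ 2) (next c s u) := by
      have h1 : Commute u (next c s u) :=
        (hcu.symm.mul_right (commute_conj_self hD hc hs hodd hne hu)).pow_right 2
      have h2 : Commute (s * u * s) (next c s u) := (Basic.sq_commute_right hD hc hv h4').symm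
      have h3 := h1.mul_left h2
      rwa [Basic.conj_right hD hs huD h4, ← mul_assoc, Basic.sq hD huD, one_mul] at h3
    exact Basic.no_common hD hs hnD (Basic.sq_mem hD hs huD h4)
      (Basic.orderOf_swap s _ ▸ h) h'.symm (Basic.sq_commute_left hD hs huD h4) hqn
      (Basic.mul_sq_left_mem hD hs huD h4)
  · exact h

section Orbit

variable {e : G} (he : Good D c s e)
include he

theorem good (n : ℕ) : Good D c s (orbit c s e n) := by
  induction n with
  | zero => exact he
  | succ n ih => exact next_good hD hc hs hodd hne ih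

theorem comm (n : ℕ) : ∀ i ≤ n, ∀ j ≤ n, Commute (orbit c s e i) (orbit c s e j) ∧
    Commute (orbit c s e i) (s * orbit c s e j * s) := by
  induction n with
  | zero =>
    intro i hi j hj
    obtain rfl : i = 0 := by omega
    obtain rfl : j = 0 := by omega
    exact ⟨Commute.refl _, commute_conj_self hD hc hs hodd hne he⟩
  | succ n ih =>
    have hs2 := Basic.sq hD hs
    set U := orbit c s e with hU
    have hg := good hD hc hs hodd hne he
    have hV : ∀ i, s * U i * s ∈ D := fun i => Basic.conj_mem' hD (hg i).1 hs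
    have hnext : U (n + 1) = (c * (s * U n * s)) ^ 2 := rfl
    have h1 : ∀ i ≤ n, Commute (U (n + 1)) (U i) := fun i hi => by
      rw [hnext]
      exact (((hg i).2.1).mul_left (ih i hi n le_rfl).2.symm).pow_left 2
    have h2 : ∀ j ≤ n, Commute (U (n + 1)) (s * U j * s) := by
      intro j hj
      rcases eq_or_lt_of_le hj with rfl | hlt
      · exact Basic.sq_commute_right hD hc (hV j) (four_conj hD hc hs hodd hne (hg j))
      set v := s * U j * s with hv
      have hv2 : v * v = 1 := Basic.sq hD (hV j)
      have h4 := four_conj hD hc hs hodd hne (hg j)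
      have e1 : v * c * v = c * U (j + 1) :=
        (Basic.mul_sq_left hD hc (hV j) h4).symm
      have hvv : Commute v (s * U n * s) := Basic.commute_conj hs2 (ih j hj n le_rfl).1
      have hwc : Commute (U (j + 1)) c := Basic.sq_commute_left hD hc (hV j) h4
      have hwv : Commute (U (j + 1)) (s * U n * s) := (ih (j + 1) hlt n le_rfl).2
      have e2 : v * U (n + 1) * v = U (n + 1) := by
        rw [hnext, pow_two]
        calc v * (c * (s * U n * s) * (c * (s * U n * s))) * v
            = (v * c * v) * (v * (s * U n * s) * v) *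
              ((v * c * v) * (v * (s * U n * s) * v)) := by
              simp [mul_assoc, ← mul_assoc v v, hv2]
          _ = U (j + 1) * (c * (s * U n * s)) * (U (j + 1) * (c * (s * U n * s))) := by
              rw [e1, hvv.eq, mul_assoc _ v v, hv2, mul_one, ← hwc.eq]
              simp [mul_assoc]
          _ = U (j + 1) * U (j + 1) * (c * (s * U n * s) * (c * (s * U n * s))) :=
              ((hwc.mul_right hwv).symm).mul_mul_mul_comm _ _
          _ = _ := by rw [Basic.sq hD (hg _).1, one_mul]
      rw [Commute, SemiconjBy]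
      nth_rewrite 1 [← e2]
      rw [mul_assoc _ v v, hv2, mul_one]
    intro i hi j hj
    rcases Nat.le_succ_iff.1 hi with hi' | rfl <;> rcases Nat.le_succ_iff.1 hj with hj' | rfl
    · exact ih i hi' j hj'
    · refine ⟨(h1 i hi').symm, ?_⟩
      have := Basic.commute_conj hs2 (h2 i hi')
      rw [show s * (s * U i * s) * s = (s * s) * U i * (s * s) by simp [mul_assoc], hs2, one_mul,
        mul_one] at this
      exact this.symm
    · exact ⟨h1 j hj', h2 j hj'⟩
    · exact ⟨Commute.refl _, commute_conj_self hD hc hs hodd hne (hg _)⟩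

theorem comm' (i j : ℕ) : Commute (orbit c s e i) (orbit c s e j) ∧
    Commute (orbit c s e i) (s * orbit c s e j * s) :=
  comm hD hc hs hodd hne he (max i j) i (le_max_left _ _) j (le_max_right _ _)

/-- The group generated by the orbit of `e` and its conjugate by `s`. -/
def span (c s e : G) : Subgroup G :=
  Subgroup.closure (Set.range (orbit c s e) ∪ Set.range fun n => s * orbit c s e n * s)

theorem orbit_mem (n : ℕ) : orbit c s e n ∈ span c s e ∧ s * orbit c s e n * s ∈ span c s e :=
  ⟨Subgroup.subset_closure (Or.inl ⟨n, rfl⟩), Subgroup.subset_closure (Or.inr ⟨n, rfl⟩)⟩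

theorem span_commute {a b : G} (ha : a ∈ span c s e) (hb : b ∈ span c s e) : Commute a b := by
  have hgen : ∀ x ∈ Set.range (orbit c s e) ∪ Set.range (fun n => s * orbit c s e n * s),
      ∀ y ∈ Set.range (orbit c s e) ∪ Set.range (fun n => s * orbit c s e n * s), Commute x y := by
    have hco := comm' hD hc hs hodd hne he
    rintro x (⟨i, rfl⟩ | ⟨i, rfl⟩) y (⟨j, rfl⟩ | ⟨j, rfl⟩)
    · exact (hco i j).1
    · exact (hco i j).2
    · exact (hco j i).2.symm
    · exact Basic.commute_conj (Basic.sq hD hs) (hco i j).1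
  refine Subgroup.closure_induction₂ (p := fun x y _ _ => Commute x y) ?_ ?_ ?_ ?_ ?_ ?_ ?_ ha hb
  · exact fun x y hx hy => hgen x hx y hy
  · exact fun x _ => Commute.one_left x
  · exact fun x _ => Commute.one_right x
  · exact fun x y z _ _ _ h1 h2 => h1.mul_left h2
  · exact fun x y z _ _ _ h1 h2 => h1.mul_right h2
  · exact fun x y _ _ h => h.inv_left
  · exact fun x y _ _ h => h.inv_right

theorem span_sq {a : G} (ha : a ∈ span c s e) : a * a = 1 := by
  induction ha using Subgroup.closure_induction with
  | mem x hx =>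
    rcases hx with ⟨i, rfl⟩ | ⟨i, rfl⟩
    · exact Basic.sq hD (good hD hc hs hodd hne he i).1
    · exact Basic.sq hD (Basic.conj_mem' hD (good hD hc hs hodd hne he i).1 hs)
  | one => exact one_mul 1
  | mul x y hx hy ihx ihy =>
    rw [(span_commute hD hc hs hodd hne he hy hx).mul_mul_mul_comm, ihx, ihy, one_mul]
  | inv x _ ih => rw [← mul_inv_rev, ih, inv_one]

theorem span_conj {a : G} (ha : a ∈ span c s e) :
    (c * s) * a * (c * s)⁻¹ ∈ span c s e := by
  have hle : span c s e ≤ (span c s e).comap (MulAut.conj (c * s)).toMonoidHom := by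
    refine (Subgroup.closure_le _).2 ?_
    have key : ∀ n, c * (s * orbit c s e n * s) * c =
        s * orbit c s e n * s * orbit c s e (n + 1) := fun n =>
      Basic.conj_right hD hc (Basic.conj_mem' hD (good hD hc hs hodd hne he n).1 hs)
        (four_conj hD hc hs hodd hne (good hD hc hs hodd hne he n))
    have hs2 := Basic.sq hD hs
    have hc2 := Basic.sq hD hc
    have hm := orbit_mem hD hc hs hodd hne he
    rintro x (⟨n, rfl⟩ | ⟨n, rfl⟩) <;>
      simp only [Subgroup.coe_comap, Set.mem_preimage, SetLike.mem_coe, MulEquiv.coe_toMonoidHom,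
        MulAut.conj_apply, mul_inv_rev, Basic.inv hD hc, Basic.inv hD hs]
    · rw [show c * s * orbit c s e n * (s * c) = c * (s * orbit c s e n * s) * c by
        simp [mul_assoc], key]
      exact mul_mem (hm n).2 (hm (n + 1)).1
    · rw [show c * s * (s * orbit c s e n * s) * (s * c) =
          c * ((s * s) * orbit c s e n * (s * s)) * c by simp [mul_assoc], hs2, one_mul, mul_one,
        ((good hD hc hs hodd hne he n).2.1).eq, mul_assoc, hc2, mul_one]
      exact (hm n).1
  exact hle ha

theorem pow_mem (k : ℕ) {a : G} (ha : a ∈ span c s e) :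
    (a * (c * s)) ^ k * ((c * s) ^ k)⁻¹ ∈ span c s e := by
  induction k with
  | zero => simp
  | succ k ih =>
    rw [pow_succ', pow_succ' (c * s), mul_inv_rev]
    convert mul_mem ha (span_conj hD hc hs hodd hne he ih) using 1
    simp [mul_assoc]

theorem pow_mul_hom (k : ℕ) {a b : G} (ha : a ∈ span c s e) (hb : b ∈ span c s e) :
    (a * b * (c * s)) ^ k * ((c * s) ^ k)⁻¹ =
      (a * (c * s)) ^ k * ((c * s) ^ k)⁻¹ * ((b * (c * s)) ^ k * ((c * s) ^ k)⁻¹) := by
  induction k with
  | zero => simp
  | succ k ih =>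
    have hA := span_conj hD hc hs hodd hne he (pow_mem hD hc hs hodd hne he k ha)
    have key : ∀ x : G, (x * (c * s)) ^ (k + 1) * ((c * s) ^ (k + 1))⁻¹ =
        x * (c * s * ((x * (c * s)) ^ k * ((c * s) ^ k)⁻¹) * (c * s)⁻¹) := fun x => by
      rw [pow_succ', pow_succ' (c * s), mul_inv_rev]
      simp [mul_assoc]
    rw [key, key, key, ih,
      show c * s * ((a * (c * s)) ^ k * ((c * s) ^ k)⁻¹ * ((b * (c * s)) ^ k * ((c * s) ^ k)⁻¹)) *
          (c * s)⁻¹ = c * s * ((a * (c * s)) ^ k * ((c * s) ^ k)⁻¹) * (c * s)⁻¹ *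
          (c * s * ((b * (c * s)) ^ k * ((c * s) ^ k)⁻¹) * (c * s)⁻¹) by simp [mul_assoc]]
    exact (span_commute hD hc hs hodd hne he hb hA).mul_mul_mul_comm _ _

theorem norm_eq_one (n : ℕ) : (orbit c s e n * (c * s)) ^ orderOf (c * s) = 1 := by
  set u := orbit c s e n with hu
  obtain ⟨huD, hcu, hcuD, h4⟩ := good hD hc hs hodd hne he n
  have hodd' : Odd (orderOf (u * (c * s))) := by
    rw [← mul_assoc, ← hcu.eq, ← Basic.orderOf_swap]
    rcases Basic.trichotomy hD hs hcuD with h | ⟨h, -, -⟩ | h
    · refine (Basic.no_common hD hc hs hcuD hodd hne ?_ h.symm ?_).elim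
      · exact (Commute.refl c).mul_left hcu.symm
      · rw [← mul_assoc, Basic.sq hD hc, one_mul]; exact huD
    · exact h
    · exact (Basic.no_four_four hD hc huD hs hcu hcuD hodd hne h4 h).elim
  have hz := pow_mem hD hc hs hodd hne he (orderOf (c * s))
    (orbit_mem hD hc hs hodd hne he n).1
  rw [pow_orderOf_eq_one, inv_one, mul_one] at hz
  refine Basic.eq_one_of_odd (Odd.of_dvd_nat hodd' (orderOf_pow_dvd _)) (n := 1) ?_
  rw [pow_one, pow_two]
  exact span_sq hD hc hs hodd hne he hz

theorem orbit_injective {i j : ℕ} (h : orbit c s e (i + 1) = orbit c s e (j + 1)) :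
    orbit c s e i = orbit c s e j := by
  set U := orbit c s e with hU
  have hg := good hD hc hs hodd hne he
  have hm := orbit_mem hD hc hs hodd hne he
  have hV : ∀ k, s * U k * s ∈ D := fun k => Basic.conj_mem' hD (hg k).1 hs
  have hs2 := Basic.sq hD hs
  have hc2 := Basic.sq hD hc
  set w := (s * U i * s) * (s * U j * s) with hw
  have key : ∀ k, c * (s * U k * s) * c = s * U k * s * U (k + 1) := fun k =>
    Basic.conj_right hD hc (hV k) (four_conj hD hc hs hodd hne (hg k))
  have hwM : w ∈ span c s e := mul_mem (hm i).2 (hm j).2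
  have hwc : Commute c w := by
    have : c * w * c = w := by
      calc c * w * c = (c * (s * U i * s) * c) * (c * (s * U j * s) * c) := by
            simp [hw, mul_assoc, ← mul_assoc c c, hc2]
        _ = (s * U i * s * U (i + 1)) * (s * U j * s * U (j + 1)) := by rw [key, key]
        _ = w * (U (i + 1) * U (j + 1)) :=
            (span_commute hD hc hs hodd hne he (hm (i + 1)).1 (hm j).2).mul_mul_mul_comm _ _
        _ = w := by rw [h, Basic.sq hD (hg _).1, mul_one]
    rw [Commute, SemiconjBy]
    nth_rewrite 2 [← this]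
    rw [mul_assoc _ c c, hc2, mul_one]
  have hwz : Commute (s * c * s) w :=
    (Basic.commute_conj hs2 (hg i).2.1).mul_right (Basic.commute_conj hs2 (hg j).2.1)
  have hr2 : (c * s) ^ 2 = c * (s * c * s) := by simp [pow_two, mul_assoc]
  have hwr : Commute w (c * s) := by
    refine Basic.commute_of_sq (Basic.orderOf_swap s c ▸ hodd) ?_
    rw [hr2]
    exact hwc.symm.mul_right hwz.symm
  have hws : Commute w s := by
    have h1 := hwc.symm.mul_right hwr
    rwa [← mul_assoc, hc2, one_mul] at h1
  have hwu : w = U i * U j := by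
    calc w = s * w * s := by rw [← hws.eq, mul_assoc, hs2, mul_one]
      _ = U i * U j := by simp [hw, mul_assoc, ← mul_assoc s s, hs2]
  have hnorm : (w * (c * s)) ^ orderOf (c * s) = 1 := by
    have h1 := pow_mul_hom hD hc hs hodd hne he (orderOf (c * s)) (hm i).1 (hm j).1
    rw [pow_orderOf_eq_one, inv_one, mul_one, mul_one, mul_one, norm_eq_one hD hc hs hodd hne he i,
      norm_eq_one hD hc hs hodd hne he j, mul_one, ← hwu] at h1
    exact h1
  rw [hwr.mul_pow, pow_orderOf_eq_one, mul_one] at hnorm
  have hodd' : Odd (orderOf w) :=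
    (Basic.orderOf_swap s c ▸ hodd).of_dvd_nat (orderOf_dvd_of_pow_eq_one hnorm)
  have hw1 : w = 1 := Basic.eq_one_of_odd hodd' (n := 1)
    (by rw [pow_one, pow_two]; exact span_sq hD hc hs hodd hne he hwM)
  rw [hwu] at hw1
  exact (mul_eq_one_iff_eq_inv.1 hw1).trans (Basic.inv hD (hg j).1)

end Orbit

/-- If `e` is a product partner of `c` and some odd partner of `c` is not one of `e`, then
`e = [v, c]` for a member `v` commuting with `e`. -/
theorem exists_commutator [Finite G] {e : G} (he : e ∈ D) (hce : Commute c e) (hceD : c * e ∈ D)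
    (hnot : ¬ (Odd (orderOf (s * e)) ∧ s ≠ e)) :
    ∃ v ∈ D, orderOf (v * c) = 4 ∧ (v * c) ^ 2 = e ∧ Commute v e := by
  have hg0 : Good D c s e :=
    ⟨he, hce, hceD, four_of_not_odd hD hc hs hodd hne he hce hceD hnot⟩
  obtain ⟨i, j, hij, h⟩ := Finite.exists_ne_map_eq_of_infinite (orbit c s e)
  wlog hlt : i < j generalizing i j
  · exact this j i hij.symm h.symm (by omega)
  obtain ⟨k, rfl⟩ : ∃ k, j = i + (k + 1) := ⟨j - i - 1, by omega⟩
  have h0 : ∀ m, orbit c s e m = orbit c s e (m + (k + 1)) → orbit c s e 0 = orbit c s e (k + 1) := by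
    intro m
    induction m with
    | zero => intro hm; simpa using hm
    | succ m ih =>
      intro hm
      refine ih (orbit_injective hD hc hs hodd hne hg0 ?_)
      rw [hm]
      congr 1
      omega
  have hk := h0 i h
  have hgk := good hD hc hs hodd hne hg0 k
  have h4 := four_conj hD hc hs hodd hne hgk
  have hv := Basic.conj_mem' hD hgk.1 hs
  refine ⟨s * orbit c s e k * s, hv, Basic.orderOf_swap c _ ▸ h4, ?_,
    (comm' hD hc hs hodd hne hg0 0 k).2.symm⟩
  rw [Basic.sq_swap hD hc hv h4]
  exact hk.symm

end Cfsg.Agent.RootInvolutions.Edge
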