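import Mathlib
import Cfsg.Prelude.Def_CaseTheorems
import Cfsg.Agent.Lib.RootInvolutions.Basic
import Cfsg.Agent.Lib.Involutions.Basic
import Cfsg.Agent.Lib.Involutions.BaerSuzuki
import Cfsg.Agent.Lib.Cores.Basic

/-!
# Root involutions: 2-subgroups and components of the graph of odd products
-/

set_option autoImplicit false
set_option linter.unusedSectionVars false

namespace Cfsg.Agent.RootInvolutions.Graph

open Cfsg.Agent.RootInvolutions

variable {G : Type*} [Group G] [Finite G]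

theorem pair_two_group {a b : G} (ha : orderOf a = 2) (hb : orderOf b = 2)
    (h4 : (a * b) ^ 4 = 1) : IsPGroup 2 ↥(Subgroup.closure ({a, b} : Set G)) := by
  rintro ⟨g, hg⟩
  obtain ⟨k, rfl | rfl⟩ := (Involutions.Basic.mem_closure_pair ha hb).1 hg
  · refine ⟨2, Subtype.ext ?_⟩
    rw [SubmonoidClass.coe_pow, OneMemClass.coe_one, ← zpow_natCast, ← zpow_mul, mul_comm, zpow_mul]
    norm_num [h4]
  · refine ⟨1, Subtype.ext ?_⟩
    rw [SubmonoidClass.coe_pow, OneMemClass.coe_one, pow_one, pow_two]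
    exact Involutions.Basic.sq_of_mul_zpow ha hb k

theorem closure_two {T : Set G} (h2 : ∀ t ∈ T, orderOf t = 2)
    (h4 : ∀ t ∈ T, ∀ u ∈ T, (t * u) ^ 4 = 1) (hconj : ∀ t ∈ T, ∀ g : G, g * t * g⁻¹ ∈ T) :
    Subgroup.closure T ≤ Cfsg.pCore 2 G := by
  haveI : Fact (Nat.Prime 2) := ⟨Nat.prime_two⟩
  refine (Subgroup.closure_le _).2 fun t ht => ?_
  have hX : IsPGroup 2 ↥(Subgroup.zpowers t) := IsPGroup.of_card
    (n := 1) (by rw [Nat.card_zpowers, h2 t ht, pow_one])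
  obtain ⟨N, hN, hN2, hle⟩ := Involutions.BaerSuzuki.baer_suzuki (Subgroup.zpowers t) hX
    (fun g => by
      refine (pair_two_group (h2 t ht) (h2 _ (hconj t ht g)) (h4 t ht _ (hconj t ht g))).to_le ?_
      rw [MonoidHom.map_zpowers, sup_le_iff, Subgroup.zpowers_le, Subgroup.zpowers_le]
      exact ⟨Subgroup.subset_closure (Or.inl rfl), Subgroup.subset_closure (Or.inr rfl)⟩)
  haveI := hN
  exact Cores.le_pCore hN2 (hle (Subgroup.mem_zpowers t))

variable {D : Set G} (hD : Cfsg.IsRootInvolutionSet D)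
include hD

theorem pow_four {a b : G} (ha : a ∈ D) (hb : b ∈ D) (h : ¬ (Odd (orderOf (a * b)) ∧ a ≠ b)) :
    (a * b) ^ 4 = 1 := by
  rcases Basic.trichotomy hD ha hb with h1 | ⟨h1, h2, -⟩ | h1
  · rw [h1.mul_pow, show (4 : ℕ) = 2 * 2 from rfl, pow_mul, pow_mul, pow_two a, pow_two b,
      Basic.sq hD ha, Basic.sq hD hb, one_pow, one_mul]
  · exact absurd ⟨h1, h2⟩ h
  · rw [← h1]; exact pow_orderOf_eq_one _

theorem oddAdj_symm {a b : G} (h : Cfsg.OddAdj D a b) : Cfsg.OddAdj D b a :=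
  ⟨h.2.1, h.1, h.2.2.1.symm, by rw [Basic.orderOf_swap]; exact h.2.2.2⟩

theorem oddAdj_conj {a b : G} (h : Cfsg.OddAdj D a b) (g : G) :
    Cfsg.OddAdj D (g * a * g⁻¹) (g * b * g⁻¹) :=
  ⟨hD.conj_mem a h.1 g, hD.conj_mem b h.2.1 g, fun e => h.2.2.1 (by simpa using e),
    by rw [Basic.orderOf_conj]; exact h.2.2.2⟩

theorem reach_symm {a b : G} (h : Relation.ReflTransGen (Cfsg.OddAdj D) a b) :
    Relation.ReflTransGen (Cfsg.OddAdj D) b a := by
  induction h with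
  | refl => exact Relation.ReflTransGen.refl
  | tail _ h2 ih => exact ih.head (oddAdj_symm hD h2)

theorem reach_conj {a b : G} (h : Relation.ReflTransGen (Cfsg.OddAdj D) a b) :
    ∃ g : G, g * a * g⁻¹ = b := by
  induction h with
  | refl => exact ⟨1, by simp⟩
  | tail _ h2 ih =>
    obtain ⟨g, rfl⟩ := ih
    obtain ⟨d, -, hd⟩ := Involutions.Basic.exists_conj_of_odd (hD.orderOf_eq _ h2.1)
      (hD.orderOf_eq _ h2.2.1) h2.2.2.2
    exact ⟨d * g, by rw [← hd]; simp [mul_assoc]⟩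

theorem isolated_iff {w : G} :
    Cfsg.IsIsolatedElem (Cfsg.OddAdj D) D w ↔
      w ∈ D ∧ ∀ b ∈ D, ¬ (Odd (orderOf (w * b)) ∧ w ≠ b) := by
  constructor
  · exact fun h => ⟨h.1, fun b hb hh => (h.2 b).1 ⟨h.1, hb, hh.2, hh.1⟩⟩
  · rintro ⟨hw, h⟩
    refine ⟨hw, fun b => ⟨fun hb => h b hb.2.1 ⟨hb.2.2.2, hb.2.2.1⟩, fun hb => ?_⟩⟩
    exact h b hb.1 ⟨by rw [Basic.orderOf_swap]; exact hb.2.2.2, hb.2.2.1.symm⟩

theorem isolated_conj {w : G} (hw : Cfsg.IsIsolatedElem (Cfsg.OddAdj D) D w) (g : G) :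
    Cfsg.IsIsolatedElem (Cfsg.OddAdj D) D (g * w * g⁻¹) := by
  have key : ∀ b, Cfsg.OddAdj D (g * w * g⁻¹) b → Cfsg.OddAdj D w (g⁻¹ * b * g) := fun b hb => by
    have := oddAdj_conj hD hb g⁻¹
    simpa [mul_assoc] using this
  exact ⟨hD.conj_mem w hw.1 g, fun b => ⟨fun hb => (hw.2 _).1 (key b hb),
    fun hb => (hw.2 _).1 (key b (oddAdj_symm hD hb))⟩⟩

theorem mem_pCore_iff {w : G} (hw : w ∈ D) :
    w ∈ Cfsg.pCore 2 G ↔ Cfsg.IsIsolatedElem (Cfsg.OddAdj D) D w := by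
  constructor
  · intro h
    rw [isolated_iff hD]
    refine ⟨hw, fun b hb hh => hh.2 ?_⟩
    haveI : (Cfsg.pCore 2 G).Normal := Cores.pCore_normal 2
    -- `wb` is trivial modulo the core, and has odd order
    obtain ⟨d, -, hdb⟩ := Involutions.Basic.exists_conj_of_odd (hD.orderOf_eq w hw)
      (hD.orderOf_eq b hb) hh.1
    have hb' : b ∈ Cfsg.pCore 2 G := hdb ▸ Subgroup.Normal.conj_mem inferInstance w h d
    obtain ⟨k, hk⟩ := Cores.pCore_isPGroup (G := G) 2 ⟨w * b, mul_mem h hb'⟩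
    have h1 : (w * b) ^ 2 ^ k = 1 := congrArg Subtype.val hk
    exact (mul_eq_one_iff_eq_inv.1 (Basic.eq_one_of_odd hh.1 h1)).trans (Basic.inv hD hb)
  · intro h
    refine closure_two (T := {u | Cfsg.IsIsolatedElem (Cfsg.OddAdj D) D u}) ?_ ?_ ?_
      (Subgroup.subset_closure h)
    · exact fun t ht => hD.orderOf_eq t ht.1
    · exact fun t ht u hu => pow_four hD ht.1 hu.1 (((isolated_iff hD).1 ht).2 u hu.1)
    · exact fun t ht g => isolated_conj hD ht g

/-- In a triangle, a vertex with an odd partner is joined to one of the other two. -/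
theorem triangle_reach {a b : G} (ha : a ∈ D) (hb : b ∈ D) (hab : Commute a b) (habD : a * b ∈ D)
    (hna : ¬ Cfsg.IsIsolatedElem (Cfsg.OddAdj D) D a) :
    Relation.ReflTransGen (Cfsg.OddAdj D) a b ∨
      Relation.ReflTransGen (Cfsg.OddAdj D) a (a * b) := by
  rw [isolated_iff hD] at hna
  push Not at hna
  obtain ⟨x, hx, hodd, hne⟩ := hna ha
  have hax : Cfsg.OddAdj D a x := ⟨ha, hx, hne, hodd⟩
  rw [Basic.orderOf_swap] at hodd
  rcases Basic.trichotomy hD hx hb with h | ⟨h1, h2, -⟩ | h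
  · exact (Basic.no_common hD ha hx hb hodd hne.symm hab.symm h.symm habD).elim
  · exact Or.inl ((Relation.ReflTransGen.single hax).tail ⟨hx, hb, h2, h1⟩)
  rcases Basic.trichotomy hD hx habD with h' | ⟨h1, h2, -⟩ | h'
  · refine (Basic.no_common hD ha hx habD hodd hne.symm ?_ h'.symm ?_).elim
    · exact (Commute.refl a).mul_left hab.symm
    · rw [← mul_assoc, Basic.sq hD ha, one_mul]; exact hb
  · exact Or.inr ((Relation.ReflTransGen.single hax).tail ⟨hx, habD, h2, h1⟩)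
  · exact (Basic.no_four_four hD ha hb hx hab habD hodd hne.symm h h').elim

theorem partner_reach {a b : G} (ha : a ∈ D) (hb : b ∈ D) (hab : Commute a b) (habD : a * b ∈ D)
    (hna : ¬ Cfsg.IsIsolatedElem (Cfsg.OddAdj D) D a)
    (hnb : ¬ Cfsg.IsIsolatedElem (Cfsg.OddAdj D) D b) :
    Relation.ReflTransGen (Cfsg.OddAdj D) a b := by
  rcases triangle_reach hD ha hb hab habD hna with h | h
  · exact h
  rcases triangle_reach hD hb ha hab.symm (hab.eq ▸ habD) hnb with h' | h'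
  · exact reach_symm hD h'
  · rw [← hab.eq] at h'
    exact h.trans (reach_symm hD h')

theorem not_isolated_of_connected (hc : Cfsg.IsConnectedSet (Cfsg.OddAdj D) D) {a b : G}
    (ha : a ∈ D) (hb : b ∈ D) (hne : a ≠ b) : ∃ x ∈ D, Odd (orderOf (a * x)) ∧ a ≠ x := by
  rcases (hc a ha b hb).cases_head with h | ⟨c, hc', -⟩
  · exact absurd h hne
  · exact ⟨c, hc'.2.1, hc'.2.2.2, hc'.2.2.1⟩

end Cfsg.Agent.RootInvolutions.Graph
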