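import Mathlib
import Cfsg.Agent.Lib.RootInvolutions.Edge
import Cfsg.Agent.Lib.RootInvolutions.Graph

/-!
# Root involutions with connected odd graph: members with equal commuting sets

Two members have the same commuting members iff they have the same odd partners, and every pair of
product partners not of this kind is a commutator edge.
-/

set_option autoImplicit false
set_option linter.unusedSectionVars false

namespace Cfsg.Agent.RootInvolutions.SameClass

open Cfsg.Agent.RootInvolutions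

variable {G : Type*} [Group G] [Finite G] {D : Set G}
  (hD : Cfsg.IsRootInvolutionSet D) (hc : Cfsg.IsConnectedSet (Cfsg.OddAdj D) D)

include hD in
theorem mem_oddPartners_symm {a b : G} (ha : a ∈ D) (h : b ∈ Cfsg.oddPartners D a) :
    a ∈ Cfsg.oddPartners D b :=
  ⟨ha, h.2.1.symm, by rw [Basic.orderOf_swap]; exact h.2.2⟩

include hD in
theorem not_commute_oddPartner {a b : G} (ha : a ∈ D) (h : b ∈ Cfsg.oddPartners D a) :
    ¬ Commute a b :=
  Basic.not_commute_of_odd hD ha h.1 h.2.2 h.2.1.symm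

include hD in
theorem oddPartners_conj (g a : G) :
    Cfsg.oddPartners D (g * a * g⁻¹) = (fun x => g * x * g⁻¹) '' Cfsg.oddPartners D a := by
  have key : ∀ g a x : G, x ∈ Cfsg.oddPartners D a →
      g * x * g⁻¹ ∈ Cfsg.oddPartners D (g * a * g⁻¹) := fun g a x hx =>
    ⟨hD.conj_mem x hx.1 g, fun e => hx.2.1 (by simpa using e),
      by rw [Basic.orderOf_conj]; exact hx.2.2⟩
  ext x
  constructor
  · intro hx
    refine ⟨g⁻¹ * x * g, ?_, by simp [mul_assoc]⟩
    have := key g⁻¹ _ x hx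
    simpa [mul_assoc] using this
  · rintro ⟨y, hy, rfl⟩
    exact key g a y hy

include hD hc

theorem eq_of_subset {a b : G} (ha : a ∈ D) (hb : b ∈ D)
    (h : Cfsg.oddPartners D a ⊆ Cfsg.oddPartners D b) :
    Cfsg.oddPartners D a = Cfsg.oddPartners D b := by
  refine Set.eq_of_subset_of_ncard_le h ?_ (Set.toFinite _)
  obtain ⟨g, hg⟩ := Graph.reach_conj hD (hc a ha b hb)
  rw [← hg, oddPartners_conj hD,
    Set.ncard_image_of_injective _ (fun x y e => by simpa using e)]

/-- A product partner of `a` with other odd partners gives a commutator edge. -/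
theorem edge {a b : G} (ha : a ∈ D) (hb : b ∈ D) (hab : Commute a b) (habD : a * b ∈ D)
    (hne : Cfsg.oddPartners D a ≠ Cfsg.oddPartners D b) :
    ∃ v ∈ D, orderOf (v * a) = 4 ∧ (v * a) ^ 2 = b ∧ Commute v b := by
  obtain ⟨s, hs, hsb⟩ : ∃ s ∈ Cfsg.oddPartners D a, s ∉ Cfsg.oddPartners D b := by
    by_contra h
    push Not at h
    exact hne (eq_of_subset hD hc ha hb h)
  refine Edge.exists_commutator hD ha hs.1 (by rw [Basic.orderOf_swap]; exact hs.2.2) hs.2.1 hb hab
    habD ?_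
  exact fun h => hsb ⟨hs.1, h.2, by rw [Basic.orderOf_swap]; exact h.1⟩

theorem four_block {a b : G} (ha : a ∈ D) (hb : b ∈ D) (h4 : orderOf (a * b) = 4)
    (hA : Cfsg.oddPartners D a = Cfsg.oddPartners D b) :
    Cfsg.oddPartners D ((a * b) ^ 2) = Cfsg.oddPartners D b := by
  by_contra hne
  set c := (a * b) ^ 2 with hcdef
  have hcb : Commute c b := Basic.sq_commute_right hD ha hb h4
  have hcD := Basic.sq_mem hD ha hb h4
  obtain ⟨v, hv, hv4, hvb, hvc⟩ := edge hD hc hcD hb hcb
    (hcb.eq ▸ Basic.mul_sq_right_mem hD ha hb h4) hne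
  obtain ⟨hodd, hva⟩ := Basic.exact_odd hD hcD ha hb hv
    (Basic.sq_commute_left hD ha hb h4).symm hv4 hvb h4 rfl
  have : v ∈ Cfsg.oddPartners D a := ⟨hv, hva, by rw [Basic.orderOf_swap]; exact hodd⟩
  rw [hA] at this
  exact not_commute_oddPartner hD hb this hvc.symm

/-- Members with the same odd partners commute. -/
theorem commute_of_eq {d e : G} (hd : d ∈ D) (he : e ∈ D)
    (hA : Cfsg.oddPartners D d = Cfsg.oddPartners D e) : Commute d e := by
  rcases eq_or_ne d e with rfl | hde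
  · exact Commute.refl d
  haveI : Fact (Nat.Prime 2) := ⟨Nat.prime_two⟩
  set A := Cfsg.oddPartners D d with hAd
  set Δ := {u | u ∈ D ∧ Cfsg.oddPartners D u = A} with hΔ
  have hnonodd : ∀ u ∈ Δ, ∀ v ∈ Δ, ¬ (Odd (orderOf (u * v)) ∧ u ≠ v) := by
    rintro u ⟨-, hu⟩ v ⟨hv, hv'⟩ ⟨h1, h2⟩
    have : v ∈ Cfsg.oddPartners D u := ⟨hv, h2.symm, h1⟩
    rw [hu, ← hv'] at this
    exact this.2.1 rfl
  have hconj : ∀ u ∈ Δ, ∀ v ∈ Δ, u * v * u⁻¹ ∈ Δ := by
    rintro u ⟨hu, hu'⟩ v ⟨hv, hv'⟩
    refine ⟨hD.conj_mem v hv u, ?_⟩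
    rw [oddPartners_conj hD, hv', ← hu', ← oddPartners_conj hD, mul_inv_cancel_right]
  set Q := Subgroup.closure Δ with hQ
  have hstab : ∀ g ∈ Q, (∀ v ∈ Δ, g * v * g⁻¹ ∈ Δ) ∧ ∀ v ∈ Δ, g⁻¹ * v * g ∈ Δ := by
    intro g hg
    induction hg using Subgroup.closure_induction with
    | mem u hu =>
      refine ⟨hconj u hu, fun v hv => ?_⟩
      have h := hconj u hu v hv
      rwa [Basic.inv hD hu.1] at h ⊢
    | one => exact ⟨fun v hv => by simpa using hv, fun v hv => by simpa using hv⟩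
    | mul x y _ _ hx hy =>
      exact ⟨fun v hv => by simpa [mul_assoc] using hx.1 _ (hy.1 v hv),
        fun v hv => by simpa [mul_assoc] using hy.2 _ (hx.2 v hv)⟩
    | inv x _ hx =>
      exact ⟨fun v hv => by simpa using hx.2 v hv, fun v hv => by simpa using hx.1 v hv⟩
  have hQ2 : IsPGroup 2 Q := by
    have hle := Graph.closure_two (G := Q) (T := Subtype.val ⁻¹' Δ) ?_ ?_ ?_
    · rw [Subgroup.closure_closure_coe_preimage, top_le_iff] at hle
      intro g
      have hg : g ∈ Cfsg.pCore 2 Q := hle ▸ Subgroup.mem_top g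
      obtain ⟨k, hk⟩ := Cores.pCore_isPGroup (G := Q) 2 ⟨g, hg⟩
      exact ⟨k, congrArg Subtype.val hk⟩
    · intro t ht
      rw [← Subgroup.orderOf_coe]
      exact hD.orderOf_eq _ ht.1
    · intro t ht u hu
      refine Subtype.ext ?_
      simpa using Graph.pow_four hD ht.1 hu.1 (hnonodd _ ht _ hu)
    · intro t ht g
      exact (hstab g g.2).1 t ht
  -- some member of `Δ` centralizes `Δ`
  obtain ⟨u, hu, hucomm⟩ : ∃ u ∈ Δ, ∀ v ∈ Δ, Commute u v := by
    by_contra h
    push Not at h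
    have hdeep : ∀ n, ∃ u ∈ Δ, u ∈ Q.lowerCentralSeries n := by
      intro n
      induction n with
      | zero => exact ⟨d, ⟨hd, rfl⟩, Subgroup.subset_closure ⟨hd, rfl⟩⟩
      | succ n ih =>
        obtain ⟨u, hu, hun⟩ := ih
        obtain ⟨v, hv, huv⟩ := h u hu
        rcases Basic.trichotomy hD hu.1 hv.1 with h1 | ⟨h1, h2, -⟩ | h1
        · exact absurd h1 huv
        · exact absurd ⟨h1, h2⟩ (hnonodd u hu v hv)
        refine ⟨(u * v) ^ 2, ⟨Basic.sq_mem hD hu.1 hv.1 h1, ?_⟩, ?_⟩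
        · rw [four_block hD hc hu.1 hv.1 h1 (hu.2.trans hv.2.symm), hv.2]
        · rw [Subgroup.lowerCentralSeries_succ]
          have := Subgroup.commutator_mem_commutator hun (Subgroup.subset_closure hv : v ∈ Q)
          rwa [commutatorElement_def, Basic.inv hD hu.1, Basic.inv hD hv.1,
            show u * v * u * v = (u * v) ^ 2 by rw [pow_two, ← mul_assoc]] at this
    obtain ⟨n, hn⟩ := (Subgroup.isNilpotent_iff_lowerCentralSeries Q).1 hQ2.isNilpotent
    obtain ⟨u, hu, hun⟩ := hdeep n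
    rw [hn, Subgroup.mem_bot] at hun
    exact Basic.ne_one hD hu.1 hun
  obtain ⟨x, hx, hodd, hdx⟩ := Graph.not_isolated_of_connected hD hc hd he hde
  have hxA : x ∈ A := ⟨hx, hdx.symm, hodd⟩
  -- an element stabilizing `Δ` takes `u` to `d`
  obtain ⟨g₁, -, hg₁⟩ := Involutions.Basic.exists_conj_of_odd (hD.orderOf_eq u hu.1)
    (hD.orderOf_eq x hx) (by rw [← hu.2] at hxA; exact hxA.2.2)
  obtain ⟨g₂, -, hg₂⟩ := Involutions.Basic.exists_conj_of_odd (hD.orderOf_eq x hx)
    (hD.orderOf_eq d hd) (by rw [Basic.orderOf_swap]; exact hodd)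
  set g := g₂ * g₁ with hg
  have hgu : g * u * g⁻¹ = d := by rw [← hg₂, ← hg₁, hg]; simp [mul_assoc]
  have himg : A = (fun z => g * z * g⁻¹) '' A := by
    conv_lhs => rw [hAd, ← hgu, oddPartners_conj hD, hu.2]
  have hback : g⁻¹ * e * g ∈ Δ := by
    refine ⟨by simpa using hD.conj_mem e he g⁻¹, ?_⟩
    have h1 := oddPartners_conj hD g⁻¹ e
    rw [inv_inv, ← hA, himg, ← Set.image_comp] at h1
    rw [h1]
    simp [Function.comp_def, mul_assoc]
  have hfin := (hucomm _ hback).map (MulAut.conj g).toMonoidHom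
  simpa [mul_assoc, hgu, MulAut.conj_apply] using hfin

theorem commutingMembers_subset {d e : G} (hd : d ∈ D) (he : e ∈ D)
    (hA : Cfsg.oddPartners D d = Cfsg.oddPartners D e) :
    Cfsg.commutingMembers D d ⊆ Cfsg.commutingMembers D e := by
  rintro t ⟨ht, htd⟩
  refine ⟨ht, ?_⟩
  have hde := commute_of_eq hD hc hd he hA
  rcases Basic.trichotomy hD ht he with h | ⟨h1, h2, -⟩ | h4
  · exact h
  · have : t ∈ Cfsg.oddPartners D d := hA ▸ ⟨ht, h2, by rw [Basic.orderOf_swap]; exact h1⟩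
    exact absurd (show Commute d t from htd.symm) (not_commute_oddPartner hD hd this)
  exfalso
  set w := (t * e) ^ 2 with hw
  have hwD := Basic.sq_mem hD ht he h4
  have hwe : Commute w e := Basic.sq_commute_right hD ht he h4
  have hewD : e * w ∈ D := Basic.mul_sq_right_mem hD ht he h4
  have hAw : Cfsg.oddPartners D w = Cfsg.oddPartners D e := by
    refine eq_of_subset hD hc hwD he fun s hs => ?_
    by_contra hse
    have hAew : Cfsg.oddPartners D (e * w) = Cfsg.oddPartners D e := by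
      rw [Basic.mul_sq_right hD ht he h4, show t * e * t = t * e * t⁻¹ by rw [Basic.inv hD ht],
        oddPartners_conj hD, ← hA, ← oddPartners_conj hD]
      congr 1
      rw [show t * d = d * t from htd, mul_inv_cancel_right]
    have hodd : Odd (orderOf (s * w)) := by rw [Basic.orderOf_swap]; exact hs.2.2
    have h1 : orderOf (s * e) = 4 :=
      Edge.four_of_not_odd hD hwD hs.1 hodd hs.2.1 he hwe (hwe.eq ▸ hewD)
        (fun hh => hse ⟨hs.1, hh.2, by rw [Basic.orderOf_swap]; exact hh.1⟩)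
    have h2 : orderOf (s * (e * w)) = 4 := by
      refine Edge.four_of_not_odd hD hwD hs.1 hodd hs.2.1 hewD ?_ ?_ ?_
      · exact hwe.mul_right (Commute.refl w)
      · rw [← mul_assoc, hwe.eq, mul_assoc, Basic.sq hD hwD, mul_one]; exact he
      · exact fun hh => hse (hAew ▸ ⟨hs.1, hh.2, by rw [Basic.orderOf_swap]; exact hh.1⟩)
    refine Basic.no_four_four hD hwD he hs.1 hwe (hwe.eq ▸ hewD) hodd hs.2.1 h1 ?_
    rwa [hwe.eq]
  by_cases hAt : Cfsg.oddPartners D t = Cfsg.oddPartners D e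
  · exact Basic.not_commute_of_four hD ht he h4 (commute_of_eq hD hc ht he hAt)
  obtain ⟨v, hv, hv4, hvt, -⟩ := edge hD hc hwD ht (Basic.sq_commute_left hD ht he h4)
    ((Basic.sq_commute_left hD ht he h4).eq ▸ Basic.mul_sq_left_mem hD ht he h4)
    (fun h => hAt (h ▸ hAw))
  have h4' : orderOf (e * t) = 4 := Basic.orderOf_swap t e ▸ h4
  obtain ⟨hodd, hve⟩ := Basic.exact_odd hD hwD he ht hv hwe.symm hv4 hvt h4'
    (Basic.sq_swap hD ht he h4)
  have : v ∈ Cfsg.oddPartners D w := hAw ▸ ⟨hv, hve, by rw [Basic.orderOf_swap]; exact hodd⟩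
  exact Basic.not_commute_of_four hD hv hwD hv4
    (absurd this (fun h => by
      have h2 : Odd (orderOf (v * w)) := by rw [Basic.orderOf_swap]; exact h.2.2
      rw [hv4] at h2
      exact absurd h2 (by decide)))

theorem commutingMembers_eq_iff {d e : G} (hd : d ∈ D) (he : e ∈ D) :
    Cfsg.commutingMembers D d = Cfsg.commutingMembers D e ↔
      Cfsg.oddPartners D d = Cfsg.oddPartners D e := by
  refine ⟨fun h => ?_, fun h => (commutingMembers_subset hD hc hd he h).antisymm
    (commutingMembers_subset hD hc he hd h.symm)⟩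
  have key : ∀ d ∈ D, ∀ e ∈ D, Cfsg.commutingMembers D d = Cfsg.commutingMembers D e →
      Cfsg.oddPartners D d ⊆ Cfsg.oddPartners D e := by
    intro d hd e he h x hx
    have hed : Commute e d :=
      (h.symm.subset (show e ∈ Cfsg.commutingMembers D e from ⟨he, rfl⟩)).2
    rcases Basic.trichotomy hD hx.1 he with h1 | ⟨h1, h2, -⟩ | h4
    · have : x ∈ Cfsg.commutingMembers D d := h.symm.subset ⟨hx.1, h1⟩
      exact absurd (show Commute d x from this.2.symm) (not_commute_oddPartner hD hd hx)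
    · exact ⟨hx.1, h2, by rw [Basic.orderOf_swap]; exact h1⟩
    · exfalso
      have hf := Basic.sq_mem hD hx.1 he h4
      have hfd : Commute ((x * e) ^ 2) d :=
        (h.symm.subset ⟨hf, Basic.sq_commute_right hD hx.1 he h4⟩).2
      exact Basic.no_common hD hx.1 hd hf hx.2.2 hx.2.1.symm
        (Basic.sq_commute_left hD hx.1 he h4) hfd (Basic.mul_sq_left_mem hD hx.1 he h4)
  exact (key d hd e he h).antisymm (key e he d hd h.symm)

/-- A product partner of `a` outside its class has a partner of order four at distance three. -/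
theorem order_three {a b : G} (ha : a ∈ D) (hb : b ∈ D) (hab : Commute a b) (habD : a * b ∈ D)
    (hne : Cfsg.oddPartners D a ≠ Cfsg.oddPartners D b) :
    ∃ x ∈ D, orderOf (x * b) = 4 ∧ orderOf (a * x) = 3 := by
  obtain ⟨t, ht, ht4, htb, htb'⟩ := edge hD hc ha hb hab habD hne
  have hbtD : b * t ∈ D := by
    rw [← htb'.eq, ← htb]; exact Basic.mul_sq_left_mem hD ht ha ht4
  have hne' : Cfsg.oddPartners D b ≠ Cfsg.oddPartners D t := fun h => by
    refine Basic.not_commute_of_four hD ht ha ht4 ?_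
    exact (((commutingMembers_eq_iff hD hc hb ht).2 h).subset ⟨ha, hab⟩).2.symm
  obtain ⟨x, hx, hx4, hxt, hxt'⟩ := edge hD hc hb ht htb'.symm hbtD hne'
  have hat4 : orderOf (a * t) = 4 := Basic.orderOf_swap t a ▸ ht4
  have hat : (a * t) ^ 2 = b := by rw [Basic.sq_swap hD ht ha ht4, htb]
  obtain ⟨hodd, hxa⟩ := Basic.exact_odd hD hb ha ht hx hab hx4 hxt hat4 hat
  refine ⟨x, hx, hx4, ?_⟩
  set r := a * x with hr
  have hodd' : Odd (orderOf r) := by rw [hr, Basic.orderOf_swap]; exact hodd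
  have ha2 := Basic.sq hD ha
  have hb2 := Basic.sq hD hb
  have hx2 := Basic.sq hD hx
  have e1 : x * b * x = b * t := by rw [Basic.conj_right hD hx hb hx4, hxt]
  have e2 : a * t * a = t * b := by rw [Basic.conj_right hD ha ht hat4, hat]
  have e3 : x * t * x = t := by rw [hxt'.eq, mul_assoc, hx2, mul_one]
  have e4 : a * b * a = b := by rw [hab.eq, mul_assoc, ha2, mul_one]
  have hrc : ∀ z, r * z * r⁻¹ = a * (x * z * x) * a := fun z => by
    rw [hr, mul_inv_rev, Basic.inv hD ha, Basic.inv hD hx]; simp [mul_assoc]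
  have f1 : r * b * r⁻¹ = t := by
    rw [hrc, e1, show a * (b * t) * a = a * b * a * (a * t * a) by
      simp [mul_assoc, ← mul_assoc a a, ha2], e4, e2, ← mul_assoc, ← htb'.eq, mul_assoc, hb2,
      mul_one]
  have f2 : r * t * r⁻¹ = t * b := by rw [hrc, e3, e2]
  have f3 : r ^ 3 * b * (r ^ 3)⁻¹ = b := by
    calc r ^ 3 * b * (r ^ 3)⁻¹ = r * (r * (r * b * r⁻¹) * r⁻¹) * r⁻¹ := by
          simp [pow_succ, mul_assoc]
      _ = r * (r * t * r⁻¹) * r⁻¹ := by rw [f1]
      _ = r * t * r⁻¹ * (r * b * r⁻¹) := by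
          conv_lhs => rw [f2]
          simp [mul_assoc]
      _ = b := by rw [f1, f2, ← htb'.eq.symm, mul_assoc, Basic.sq hD ht, mul_one]
  set a' := r ^ 3 * a * (r ^ 3)⁻¹ with ha'
  have hba' : Commute b a' := by
    have h := hab.symm.map (MulAut.conj (r ^ 3)).toMonoidHom
    simp only [MulEquiv.coe_toMonoidHom, MulAut.conj_apply] at h
    rwa [f3] at h
  have hprod : a' * a = (r ^ 3) ^ 2 := by
    have e5 : a * (r ^ 3)⁻¹ * a = r ^ 3 := by
      have h1 : a * r⁻¹ * a⁻¹ = r := by
        rw [hr, mul_inv_rev, Basic.inv hD ha, Basic.inv hD hx]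
        simp [mul_assoc, ha2]
      rw [← inv_pow]
      conv_rhs => rw [← h1, conj_pow, Basic.inv hD ha]
    calc a' * a = r ^ 3 * (a * (r ^ 3)⁻¹ * a) := by simp [ha', mul_assoc]
      _ = (r ^ 3) ^ 2 := by rw [e5, pow_two]
  have hr3 : r ^ 3 = 1 := by
    by_contra hne3
    have ha'D : a' ∈ D := hD.conj_mem a ha _
    refine Basic.no_common hD ha ha'D hb ?_ ?_ hab.symm hba' habD
    · rw [hprod, ← pow_mul]
      exact hodd'.of_dvd_nat (orderOf_pow_dvd _)
    · intro h
      rw [h, ha2] at hprod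
      exact hne3 (Basic.eq_one_of_odd (hodd'.of_dvd_nat (orderOf_pow_dvd _)) (n := 1)
        (by rw [pow_one]; exact hprod.symm))
  haveI : Fact (Nat.Prime 3) := ⟨Nat.prime_three⟩
  refine orderOf_eq_prime hr3 fun h => hxa ?_
  rw [hr, mul_eq_one_iff_eq_inv, Basic.inv hD hx] at h
  exact h.symm

end Cfsg.Agent.RootInvolutions.SameClass
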