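import Mathlib
import Cfsg.Prelude.Def_QuasithinSetup
import Cfsg.Agent.Lib.RootInvolutions.SameClass

/-!
# Root involutions with connected odd graph and product partners: normal subgroups
-/

set_option autoImplicit false
set_option linter.unusedSectionVars false
set_option linter.style.haveILetI false

namespace Cfsg.Agent.RootInvolutions.NormalSubgroups

open Cfsg.Agent.RootInvolutions

variable {G : Type*} [Group G] [Finite G] {D : Set G}
  (hD : Cfsg.IsRootInvolutionSet D) (hc : Cfsg.IsConnectedSet (Cfsg.OddAdj D) D)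
  (hDD : (D ∩ Cfsg.commutingProducts D).Nonempty)
include hD hc hDD

theorem exists_partner {a : G} (ha : a ∈ D) : ∃ b ∈ D, Commute a b ∧ a * b ∈ D := by
  obtain ⟨x, hxD, a₀, ha₀, b₀, hb₀, h, -, rfl⟩ := hDD
  obtain ⟨g, hg⟩ := Graph.reach_conj hD (hc a₀ ha₀ a ha)
  refine ⟨g * b₀ * g⁻¹, hD.conj_mem b₀ hb₀ g, ?_, ?_⟩
  · rw [← hg]
    exact (show Commute a₀ b₀ from h).map (MulAut.conj g).toMonoidHom
  · rw [← hg, show g * a₀ * g⁻¹ * (g * b₀ * g⁻¹) = g * (a₀ * b₀) * g⁻¹ by simp [mul_assoc]]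
    exact hD.conj_mem _ hxD g

theorem sq_not_mem_twoZCore {a b : G} (ha : a ∈ D) (hb : b ∈ D) (hodd : Odd (orderOf (a * b)))
    (hne : a ≠ b) : (a * b) ^ 2 ∉ Cfsg.twoZCore G := by
  intro h
  haveI : Fact (Nat.Prime 2) := ⟨Nat.prime_two⟩
  haveI : (Cfsg.pCore 2 G).Normal := Cores.pCore_normal 2
  set π := QuotientGroup.mk' (Cfsg.pCore 2 G)
  have hz : π ((a * b) ^ 2) ∈ Subgroup.center _ := h
  have hinv : a * (a * b) ^ 2 * a⁻¹ = ((a * b) ^ 2)⁻¹ := by
    rw [← inv_pow, mul_inv_rev, Basic.inv hD ha, Basic.inv hD hb, pow_two, pow_two]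
    calc a * (a * b * (a * b)) * a = a * a * (b * a * (b * a)) := by simp [mul_assoc]
      _ = b * a * (b * a) := by rw [Basic.sq hD ha, one_mul]
  have h1 : π ((a * b) ^ 2) = π (((a * b) ^ 2)⁻¹) := by
    rw [← hinv, map_mul, map_mul, map_inv, Subgroup.mem_center_iff.1 hz (π a), mul_inv_cancel_right]
  have h2 : (a * b) ^ 2 * (a * b) ^ 2 ∈ Cfsg.pCore 2 G := by
    refine (QuotientGroup.eq_one_iff (N := Cfsg.pCore 2 G) _).1 ?_
    show π ((a * b) ^ 2 * (a * b) ^ 2) = 1
    rw [map_mul]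
    nth_rewrite 1 [h1]
    rw [map_inv, inv_mul_cancel]
  obtain ⟨k, hk⟩ := Cores.pCore_isPGroup (G := G) 2 ⟨_, h2⟩
  have h3 : (a * b) ^ 2 ^ (k + 2) = 1 := by
    have h4 : ((a * b) ^ 2 * (a * b) ^ 2) ^ 2 ^ k = 1 := congrArg Subtype.val hk
    rw [← h4, ← pow_add, ← pow_mul]
    congr 1
    rw [pow_add]
    ring
  exact hne ((mul_eq_one_iff_eq_inv.1 (Basic.eq_one_of_odd hodd h3)).trans (Basic.inv hD hb))

theorem twoZCore_ne_top : Cfsg.twoZCore G ≠ ⊤ := by
  intro h
  obtain ⟨x, hxD, a, ha, b, hb, hab, hne, rfl⟩ := hDD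
  have hne' : a ≠ b := fun e => hne (by rw [e]; exact Basic.sq hD hb)
  obtain ⟨y, hy, hodd, hay⟩ := Graph.not_isolated_of_connected hD hc ha hb hne'
  exact sq_not_mem_twoZCore hD hc ⟨_, hxD, a, ha, b, hb, hab, hne, rfl⟩ ha hy hodd hay
    (h ▸ Subgroup.mem_top _)

theorem normal_dichotomy (N : Subgroup G) [hN : N.Normal] : N = ⊤ ∨ N ≤ Cfsg.twoZCore G := by
  haveI : Fact (Nat.Prime 2) := ⟨Nat.prime_two⟩
  haveI : (Cfsg.pCore 2 G).Normal := Cores.pCore_normal 2
  by_cases hmeet : ∃ d ∈ D, d ∈ N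
  · obtain ⟨d, hd, hdN⟩ := hmeet
    refine Or.inl (top_le_iff.1 ?_)
    rw [← hD.generates, Subgroup.closure_le]
    intro a ha
    obtain ⟨g, rfl⟩ := Graph.reach_conj hD (hc d hd a ha)
    exact hN.conj_mem d hdN g
  push Not at hmeet
  refine Or.inr ?_
  set π := QuotientGroup.mk' N
  have hcomm : ∀ a ∈ D, ∀ n ∈ N, Commute a (n * a * n⁻¹) := by
    intro a ha n hn
    set a' := n * a * n⁻¹ with ha'
    have ha'D : a' ∈ D := hD.conj_mem a ha n
    have hπ : π a' = π a := by
      have : π n = 1 := (QuotientGroup.eq_one_iff (N := N) n).2 hn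
      rw [ha', map_mul, map_mul, map_inv, this, inv_one, one_mul, mul_one]
    have hπ2 : π a * π a = 1 := by rw [← map_mul, Basic.sq hD ha, map_one]
    rcases Basic.trichotomy hD ha ha'D with h | ⟨hodd, hne, -⟩ | h4
    · exact h
    · exfalso
      obtain ⟨b, hb, hab, habD⟩ := exists_partner hD hc hDD ha
      have hπab : (π a * π b) ^ 2 = 1 := by
        rw [← map_mul, ← map_pow, hab.mul_pow, pow_two, pow_two, Basic.sq hD ha, Basic.sq hD hb,
          one_mul, map_one]
      rcases Basic.trichotomy hD ha'D hb with h | ⟨⟨k, hk⟩, -, -⟩ | h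
      · exact Basic.no_common hD ha ha'D hb (Basic.orderOf_swap a a' ▸ hodd) hne.symm hab.symm
          h.symm habD
      · refine hmeet _ habD ((QuotientGroup.eq_one_iff (N := N) _).1 ?_)
        show π (a * b) = 1
        have h1 := congrArg π (pow_orderOf_eq_one (a' * b))
        rw [hk, map_pow, map_mul, hπ, map_one, pow_succ, pow_mul, hπab, one_pow, one_mul] at h1
        rw [map_mul, h1]
      · refine hmeet _ (Basic.sq_mem hD ha'D hb h) ((QuotientGroup.eq_one_iff (N := N) _).1 ?_)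
        show π ((a' * b) ^ 2) = 1
        rw [map_pow, map_mul, hπ, hπab]
    · refine absurd ((QuotientGroup.eq_one_iff (N := N) _).1 ?_) (hmeet _ (Basic.sq_mem hD ha ha'D h4))
      show π ((a * a') ^ 2) = 1
      rw [map_pow, map_mul, hπ, hπ2, one_pow]
  -- the commutators of `N` with a member form a normal 2-subgroup of `N`
  have hcore : ∀ a ∈ D, ∀ n ∈ N, n * a * n⁻¹ * a ∈ Cfsg.pCore 2 G := by
    intro a ha n hn
    have hmemN : ∀ k ∈ N, k * a * k⁻¹ * a ∈ N := fun k hk => by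
      have h := mul_mem hk (hN.conj_mem _ (inv_mem hk) a)
      rw [Basic.inv hD ha] at h
      simpa [mul_assoc] using h
    set T : Set N := {m | ∃ k ∈ N, (m : G) = k * a * k⁻¹ * a} with hT
    have hTc : ∀ k ∈ N, ∀ l ∈ N, Commute (k * a * k⁻¹) (l * a * l⁻¹) := fun k hk l hl => by
      have := (hcomm a ha (k⁻¹ * l) (mul_mem (inv_mem hk) hl)).map (MulAut.conj k).toMonoidHom
      simpa [mul_assoc, MulAut.conj_apply] using this
    have hT2 : ∀ m ∈ T, m * m = 1 := by
      rintro m ⟨k, hk, hm⟩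
      refine Subtype.ext ?_
      rw [Subgroup.coe_mul, Subgroup.coe_one, hm]
      rw [(hcomm a ha k hk).mul_mul_mul_comm, Basic.sq hD (hD.conj_mem a ha k), Basic.sq hD ha,
        one_mul]
    have hTT : ∀ m ∈ T, ∀ m' ∈ T, m * m' = m' * m := by
      rintro m ⟨k, hk, hm⟩ m' ⟨l, hl, hm'⟩
      refine Subtype.ext ?_
      rw [Subgroup.coe_mul, Subgroup.coe_mul, hm, hm']
      exact (((hTc k hk l hl).mul_right (hcomm a ha k hk).symm).mul_left
        ((hcomm a ha l hl).mul_right (Commute.refl a))).eq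
    haveI := Subgroup.isMulCommutative_closure hTT
    have hnorm : (Subgroup.closure T).Normal := ⟨fun x hx g => by
      induction hx using Subgroup.closure_induction with
      | mem y hy =>
        obtain ⟨k, hk, hy⟩ := hy
        have h1 : (⟨_, hmemN _ (mul_mem g.2 hk)⟩ : N) ∈ Subgroup.closure T :=
          Subgroup.subset_closure ⟨_, mul_mem g.2 hk, rfl⟩
        have h2 : (⟨_, hmemN _ g.2⟩ : N) ∈ Subgroup.closure T :=
          Subgroup.subset_closure ⟨_, g.2, rfl⟩
        convert mul_mem h1 (inv_mem h2) using 1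
        refine Subtype.ext ?_
        simp [hy, mul_assoc, Basic.inv hD ha, ← mul_assoc a a, Basic.sq hD ha]
      | one => simp
      | mul y z _ _ hy hz => rw [conj_mul.symm]; exact mul_mem hy hz
      | inv y _ hy =>
        rw [show g * y⁻¹ * g⁻¹ = (g * y * g⁻¹)⁻¹ by simp [mul_assoc]]
        exact inv_mem hy⟩
    have h2 : IsPGroup 2 (Subgroup.closure T) := by
      rintro ⟨x, hx⟩
      refine ⟨1, Subtype.ext ?_⟩
      show x ^ (2 ^ 1) = 1
      induction hx using Subgroup.closure_induction with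
      | mem y hy => rw [pow_one, pow_two]; exact hT2 y hy
      | one => exact one_pow _
      | mul y z hy hz ihy ihz =>
        have hyz : Commute y z := congrArg Subtype.val
          (mul_comm' (⟨y, hy⟩ : Subgroup.closure T) ⟨z, hz⟩)
        rw [hyz.mul_pow, ihy, ihz, one_mul]
      | inv y _ ih => rw [inv_pow, ih, inv_one]
    haveI := hnorm
    haveI : (Cfsg.pCore 2 N).Characteristic := Cores.pCore_characteristic 2
    have hle : (Cfsg.pCore 2 N).map N.subtype ≤ Cfsg.pCore 2 G :=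
      Cores.le_pCore ((Cores.pCore_isPGroup (G := N) 2).map _)
    exact hle ⟨⟨_, hmemN n hn⟩, Cores.le_pCore h2 (Subgroup.subset_closure ⟨n, hn, rfl⟩), rfl⟩
  intro n hn
  show QuotientGroup.mk' (Cfsg.pCore 2 G) n ∈ Subgroup.center _
  have hle : Subgroup.closure D ≤
      (Subgroup.centralizer ({QuotientGroup.mk' (Cfsg.pCore 2 G) n} : Set _)).comap
        (QuotientGroup.mk' (Cfsg.pCore 2 G)) := by
    refine (Subgroup.closure_le _).2 fun a ha => ?_
    rw [SetLike.mem_coe, Subgroup.mem_comap, Subgroup.mem_centralizer_singleton_iff, ← map_mul,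
      ← map_mul, QuotientGroup.mk'_eq_mk']
    refine ⟨(a * n)⁻¹ * (n * a), ?_, by simp [mul_assoc]⟩
    have h := hcore a ha n⁻¹ (inv_mem hn)
    simpa [mul_assoc, Basic.inv hD ha] using h
  rw [hD.generates] at hle
  rw [Subgroup.mem_center_iff]
  intro g
  obtain ⟨g, rfl⟩ := QuotientGroup.mk'_surjective _ g
  exact Subgroup.mem_centralizer_singleton_iff.1 (hle (Subgroup.mem_top g))

end Cfsg.Agent.RootInvolutions.NormalSubgroups
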